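import Mathlib
import Cfsg.Prelude.Def_LieExceptional

/-!
Basic theory of (B, N)-pairs: Bruhat decomposition, length function on the Weyl group `N / (B ⊓ N)`,
the exchange condition.
-/

set_option autoImplicit false

open scoped Pointwise

namespace Cfsg.Agent.BN.Basic

variable {G : Type*} [Group G] (P : Cfsg.BNPair G)

/-- `B ⊓ N` inside `N`. -/
abbrev T : Subgroup P.N := (P.B ⊓ P.N).subgroupOf P.N

instance tNormal : (T P).Normal := by
  refine ⟨fun n hn g => ?_⟩
  rw [Subgroup.mem_subgroupOf] at hn ⊢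
  refine ⟨?_, (g * n * g⁻¹).2⟩
  simpa using P.conj_mem g g.2 n hn

/-- The Weyl group. -/
abbrev W := P.N ⧸ T P

variable {P}

/-- The element of the Weyl group given by an element of `N`. -/
def mkW {n : G} (hn : n ∈ P.N) : W P := QuotientGroup.mk (⟨n, hn⟩ : P.N)

/-- The double coset `B n B`. -/
abbrev dc (P : Cfsg.BNPair G) (n : G) : Set G := DoubleCoset.doubleCoset n (P.B : Set G) P.B

theorem mem_dc {n x : G} : x ∈ dc P n ↔ ∃ b ∈ P.B, ∃ b' ∈ P.B, x = b * n * b' :=
  DoubleCoset.mem_doubleCoset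

theorem mem_dc_self (n : G) : n ∈ dc P n := DoubleCoset.mem_doubleCoset_self _ _ _

theorem dc_mul_left {n x b : G} (hb : b ∈ P.B) (hx : x ∈ dc P n) : b * x ∈ dc P n := by
  obtain ⟨c, hc, d, hd, rfl⟩ := mem_dc.1 hx
  exact mem_dc.2 ⟨b * c, mul_mem hb hc, d, hd, by simp [mul_assoc]⟩

theorem dc_mul_right {n x b : G} (hx : x ∈ dc P n) (hb : b ∈ P.B) : x * b ∈ dc P n := by
  obtain ⟨c, hc, d, hd, rfl⟩ := mem_dc.1 hx
  exact mem_dc.2 ⟨c, hc, d * b, mul_mem hd hb, by simp [mul_assoc]⟩

theorem mkW_eq_iff {n n' : G} (hn : n ∈ P.N) (hn' : n' ∈ P.N) :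
    mkW hn = mkW hn' ↔ n⁻¹ * n' ∈ P.B := by
  rw [mkW, mkW, QuotientGroup.eq, Subgroup.mem_subgroupOf, Subgroup.mem_inf]
  exact ⟨fun h => h.1, fun h => ⟨h, mul_mem (inv_mem hn) hn'⟩⟩

theorem mkW_mul {m n : G} (hm : m ∈ P.N) (hn : n ∈ P.N) :
    mkW (mul_mem hm hn) = mkW hm * mkW hn := rfl

theorem mkW_inv {n : G} (hn : n ∈ P.N) : mkW (inv_mem hn) = (mkW hn)⁻¹ := rfl

theorem mkW_one (h : (1 : G) ∈ P.N) : mkW h = 1 := rfl

theorem mkW_eq_one_iff {n : G} (hn : n ∈ P.N) : mkW hn = 1 ↔ n ∈ P.B := by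
  rw [← mkW_one (one_mem _), mkW_eq_iff]
  simp

theorem exists_mkW (w : W P) : ∃ (n : G) (hn : n ∈ P.N), mkW hn = w := by
  induction w using QuotientGroup.induction_on with
  | H z => exact ⟨z.1, z.2, rfl⟩

/-- The Bruhat cell of a Weyl group element. -/
def cell (w : W P) : Set G :=
  Quotient.liftOn' w (fun n : P.N => dc P (n : G)) (by
    intro a b hab
    rw [QuotientGroup.leftRel_apply, Subgroup.mem_subgroupOf] at hab
    symm
    apply DoubleCoset.doubleCoset_eq_of_mem
    refine mem_dc.2 ⟨1, one_mem _, (a : G)⁻¹ * (b : G), hab.1, ?_⟩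
    group)

theorem cell_mkW {n : G} (hn : n ∈ P.N) : cell (mkW hn) = dc P n := rfl

theorem mem_cell_mkW {n : G} (hn : n ∈ P.N) : n ∈ cell (mkW hn) := mem_dc_self n

theorem cell_one : cell (1 : W P) = (P.B : Set G) := by
  rw [← mkW_one (one_mem _), cell_mkW]
  ext x
  rw [mem_dc]
  constructor
  · rintro ⟨b, hb, b', hb', rfl⟩
    simpa using mul_mem hb hb'
  · intro hx
    exact ⟨x, hx, 1, one_mem _, by simp⟩

theorem cell_nonempty (w : W P) : (cell w).Nonempty := by
  obtain ⟨n, hn, rfl⟩ := exists_mkW w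
  exact ⟨n, mem_cell_mkW hn⟩

theorem mul_left_cell {w : W P} {x b : G} (hb : b ∈ P.B) (hx : x ∈ cell w) : b * x ∈ cell w := by
  obtain ⟨n, hn, rfl⟩ := exists_mkW w
  exact dc_mul_left hb hx

theorem mul_right_cell {w : W P} {x b : G} (hx : x ∈ cell w) (hb : b ∈ P.B) : x * b ∈ cell w := by
  obtain ⟨n, hn, rfl⟩ := exists_mkW w
  exact dc_mul_right hx hb

theorem cell_eq_of_mem {w w' : W P} {x : G} (h : x ∈ cell w) (h' : x ∈ cell w') :
    cell w = cell w' := by
  obtain ⟨n, hn, rfl⟩ := exists_mkW w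
  obtain ⟨n', hn', rfl⟩ := exists_mkW w'
  rw [cell_mkW, cell_mkW] at *
  exact (DoubleCoset.doubleCoset_eq_of_mem h).symm.trans (DoubleCoset.doubleCoset_eq_of_mem h')

theorem inv_mem_cell {w : W P} {x : G} (hx : x ∈ cell w) : x⁻¹ ∈ cell w⁻¹ := by
  obtain ⟨n, hn, rfl⟩ := exists_mkW w
  obtain ⟨b, hb, b', hb', rfl⟩ := mem_dc.1 hx
  rw [← mkW_inv hn, cell_mkW]
  exact mem_dc.2 ⟨b'⁻¹, inv_mem hb', b⁻¹, inv_mem hb, by group⟩

/-! ### Generators -/

/-- The Weyl group image of a distinguished generator. -/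
def gen (s : P.S) : W P := mkW (P.subset s.2)

theorem mem_cell_gen (s : P.S) : (s : G) ∈ cell (gen s) := mem_cell_mkW _

theorem gen_mul_self (s : P.S) : gen s * gen s = 1 := by
  rw [gen, ← mkW_mul, mkW_eq_one_iff]
  exact P.sq_mem _ s.2

theorem gen_inv (s : P.S) : (gen s)⁻¹ = gen s := inv_eq_of_mul_eq_one_right (gen_mul_self s)

theorem gen_mul_cancel (s : P.S) (w : W P) : gen s * (gen s * w) = w := by
  rw [← mul_assoc, gen_mul_self, one_mul]

theorem mul_gen_cancel (s : P.S) (w : W P) : w * gen s * gen s = w := by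
  rw [mul_assoc, gen_mul_self, mul_one]

theorem exists_conj_not_mem (s : P.S) : ∃ b ∈ P.B, (s : G) * b * s ∉ P.B := by
  by_contra hcon
  simp only [not_exists, not_and, not_not] at hcon
  apply P.conj_ne s s.2
  have hs2 : (s : G) * s ∈ P.B := P.sq_mem _ s.2
  have h1 : ∀ b ∈ P.B, (s : G) * b * (s : G)⁻¹ ∈ P.B := by
    intro b hb
    have h := mul_mem (hcon b hb) (inv_mem hs2)
    have e : (s : G) * b * s * ((s : G) * s)⁻¹ = s * b * (s : G)⁻¹ := by group
    rwa [e] at h
  ext x
  constructor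
  · rintro ⟨b, hb, rfl⟩
    exact hcon b hb
  · intro hx
    refine ⟨(s : G)⁻¹ * x * (s : G)⁻¹, ?_, by group⟩
    show (s : G)⁻¹ * x * (s : G)⁻¹ ∈ P.B
    have hx' : x * ((s : G) * s)⁻¹ ∈ P.B := mul_mem hx (inv_mem hs2)
    have h2 := mul_mem (mul_mem (inv_mem hs2) (h1 _ hx')) (P.sq_mem _ s.2)
    have e : ((s : G) * s)⁻¹ * ((s : G) * (x * ((s : G) * s)⁻¹) * (s : G)⁻¹) * ((s : G) * s)
        = (s : G)⁻¹ * x * (s : G)⁻¹ := by group
    rwa [e] at h2

theorem gen_ne_one (s : P.S) : gen s ≠ 1 := by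
  intro h
  rw [gen, mkW_eq_one_iff] at h
  obtain ⟨b, hb, hb'⟩ := exists_conj_not_mem s
  exact hb' (mul_mem (mul_mem h hb) h)

theorem gen_injective : Function.Injective (gen (P := P)) := by
  intro s s' h
  rw [gen, gen, mkW_eq_iff] at h
  exact Subtype.ext (P.inj _ s.2 _ s'.2 h)

/-- The product of a word in the Weyl group. -/
def wordW (L : List P.S) : W P := (L.map gen).prod

@[simp] theorem wordW_nil : wordW ([] : List P.S) = 1 := rfl

@[simp] theorem wordW_cons (s : P.S) (L : List P.S) : wordW (s :: L) = gen s * wordW L := by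
  simp [wordW]

@[simp] theorem wordW_append (L L' : List P.S) : wordW (L ++ L') = wordW L * wordW L' := by
  simp [wordW]

theorem wordW_reverse (L : List P.S) : wordW L.reverse = (wordW L)⁻¹ := by
  induction L with
  | nil => simp
  | cons s L ih => simp [ih, gen_inv]

theorem wordW_singleton (s : P.S) : wordW [s] = gen s := by simp

theorem exists_word_of_mem {J : Set G} (hJ : J ⊆ P.S) {n : G}
    (hn : n ∈ Subgroup.closure J ⊔ (P.B ⊓ P.N)) :
    ∃ hnN : n ∈ P.N, ∃ L : List P.S, (∀ s ∈ L, (s : G) ∈ J) ∧ mkW hnN = wordW L := by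
  rw [← Subgroup.closure_eq (P.B ⊓ P.N), ← Subgroup.closure_union] at hn
  induction hn using Subgroup.closure_induction with
  | mem x hx =>
    rcases hx with hx | hx
    · exact ⟨P.subset (hJ hx), [⟨x, hJ hx⟩], by simpa using hx, (wordW_singleton (⟨x, hJ hx⟩ : P.S)).symm⟩
    · exact ⟨hx.2, [], by simp, (mkW_eq_one_iff _).2 hx.1⟩
  | one => exact ⟨one_mem _, [], by simp, mkW_one _⟩
  | mul x y _ _ ihx ihy =>
    obtain ⟨hx, L, hL, hxL⟩ := ihx
    obtain ⟨hy, L', hL', hyL⟩ := ihy
    refine ⟨mul_mem hx hy, L ++ L', ?_, by rw [mkW_mul hx hy, hxL, hyL, wordW_append]⟩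
    intro s hs
    rcases List.mem_append.1 hs with h | h
    exacts [hL s h, hL' s h]
  | inv x _ ihx =>
    obtain ⟨hx, L, hL, hxL⟩ := ihx
    refine ⟨inv_mem hx, L.reverse, ?_, by rw [mkW_inv hx, hxL, wordW_reverse]⟩
    intro s hs
    exact hL s (List.mem_reverse.1 hs)

theorem exists_word (w : W P) : ∃ L : List P.S, wordW L = w := by
  obtain ⟨n, hn, rfl⟩ := exists_mkW w
  have h : n ∈ Subgroup.closure P.S ⊔ (P.B ⊓ P.N) := by rw [P.closure_sup]; exact hn
  obtain ⟨_, L, -, hL⟩ := exists_word_of_mem le_rfl h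
  exact ⟨L, hL.symm⟩

/-- The length on the Weyl group. -/
noncomputable def len (w : W P) : ℕ :=
  sInf {k | ∃ L : List P.S, L.length = k ∧ wordW L = w}

theorem exists_reduced (w : W P) : ∃ L : List P.S, L.length = len w ∧ wordW L = w := by
  obtain ⟨L, hL⟩ := exists_word w
  exact Nat.sInf_mem (s := {k | ∃ L : List P.S, L.length = k ∧ wordW L = w}) ⟨L.length, L, rfl, hL⟩

theorem len_wordW_le (L : List P.S) : len (wordW L) ≤ L.length :=
  Nat.sInf_le ⟨L, rfl, rfl⟩

theorem eq_one_of_len_eq_zero {w : W P} (h : len w = 0) : w = 1 := by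
  obtain ⟨L, hL, rfl⟩ := exists_reduced w
  rw [h] at hL
  simp [List.eq_nil_of_length_eq_zero hL]

theorem len_one : len (1 : W P) = 0 := by
  simpa using len_wordW_le ([] : List P.S)

theorem len_gen_mul_le (s : P.S) (w : W P) : len (gen s * w) ≤ len w + 1 := by
  obtain ⟨L, hL, rfl⟩ := exists_reduced w
  calc len (gen s * wordW L) = len (wordW (s :: L)) := by rw [wordW_cons]
    _ ≤ (s :: L).length := len_wordW_le _
    _ = len (wordW L) + 1 := by simp [hL]

theorem len_le_gen_mul (s : P.S) (w : W P) : len w ≤ len (gen s * w) + 1 := by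
  simpa [gen_mul_cancel] using len_gen_mul_le s (gen s * w)

theorem len_inv (w : W P) : len w⁻¹ = len w := by
  suffices h : ∀ v : W P, len v⁻¹ ≤ len v by
    refine le_antisymm (h w) ?_
    simpa using h w⁻¹
  intro v
  obtain ⟨L, hL, rfl⟩ := exists_reduced v
  rw [← wordW_reverse, ← hL, ← List.length_reverse]
  exact len_wordW_le _

theorem exists_gen_mul {w : W P} (h : w ≠ 1) :
    ∃ (s : P.S) (v : W P), w = gen s * v ∧ len v + 1 = len w := by
  obtain ⟨L, hL, rfl⟩ := exists_reduced w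
  cases L with
  | nil => simp at h
  | cons s L =>
    refine ⟨s, wordW L, by simp, ?_⟩
    have h1 : len (wordW L) ≤ L.length := len_wordW_le L
    have h2 := len_gen_mul_le s (wordW L)
    simp only [List.length_cons, wordW_cons] at hL ⊢
    omega

theorem exists_mul_gen {w : W P} (h : w ≠ 1) :
    ∃ (s : P.S) (v : W P), w = v * gen s ∧ len v + 1 = len w := by
  obtain ⟨s, v, hw, hv⟩ := exists_gen_mul (w := w⁻¹) (by simpa using h)
  refine ⟨s, v⁻¹, ?_, by simpa [len_inv] using hv⟩
  rw [← inv_inv w, hw, mul_inv_rev, gen_inv]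

/-! ### Products of cells -/

theorem mul_cell {s : P.S} {w : W P} {x y : G} (hx : x ∈ cell (gen s)) (hy : y ∈ cell w) :
    x * y ∈ cell (gen s * w) ∪ cell w := by
  obtain ⟨n, hn, rfl⟩ := exists_mkW w
  obtain ⟨b₁, hb₁, b₂, hb₂, rfl⟩ := mem_dc.1 hx
  obtain ⟨b₃, hb₃, b₄, hb₄, rfl⟩ := mem_dc.1 hy
  rw [gen, ← mkW_mul]
  have e : b₁ * (s : G) * b₂ * (b₃ * n * b₄) = b₁ * ((s : G) * (b₂ * b₃) * n) * b₄ := by
    simp only [mul_assoc]
  rw [e]
  rcases P.mul_mem_union s s.2 n hn (b₂ * b₃) (mul_mem hb₂ hb₃) with h | h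
  · exact Or.inl (dc_mul_right (dc_mul_left hb₁ h) hb₄)
  · exact Or.inr (dc_mul_right (dc_mul_left hb₁ h) hb₄)

theorem cell_mul {s : P.S} {w : W P} {x y : G} (hx : x ∈ cell w) (hy : y ∈ cell (gen s)) :
    x * y ∈ cell (w * gen s) ∪ cell w := by
  have hy' : y⁻¹ ∈ cell (gen s) := by simpa [gen_inv] using inv_mem_cell hy
  rcases mul_cell hy' (inv_mem_cell hx) with h | h
  · left
    simpa [mul_assoc, gen_inv] using inv_mem_cell h
  · right
    simpa [mul_assoc] using inv_mem_cell h

/-- The subgroup generated by `B` and a set of distinguished generators only meets the cells of its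
own Weyl subgroup. -/
theorem bruhat_of_mem {J : Set G} (hJ : J ⊆ P.S) {g : G} (hg : g ∈ P.parabolic J) :
    ∃ n ∈ Subgroup.closure J, g ∈ dc P n := by
  have hN : ∀ n ∈ Subgroup.closure J, n ∈ P.N := fun n hn =>
    (Subgroup.closure_le P.N).2 (hJ.trans P.subset) hn
  rw [BNPair.parabolic, ← Subgroup.closure_eq P.B, ← Subgroup.closure_union] at hg
  have step : ∀ s ∈ J, ∀ y, (∃ n ∈ Subgroup.closure J, y ∈ dc P n) →
      ∃ n ∈ Subgroup.closure J, s * y ∈ dc P n := by
    rintro s hs y ⟨n, hn, hy⟩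
    obtain ⟨b, hb, b', hb', rfl⟩ := mem_dc.1 hy
    have e : s * (b * n * b') = s * b * n * b' := by group
    rcases P.mul_mem_union s (hJ hs) n (hN n hn) b hb with h | h
    · exact ⟨s * n, mul_mem (Subgroup.subset_closure hs) hn, by rw [e]; exact dc_mul_right h hb'⟩
    · exact ⟨n, hn, by rw [e]; exact dc_mul_right h hb'⟩
  induction hg using Subgroup.closure_induction_left with
  | one => exact ⟨1, one_mem _, mem_dc_self 1⟩
  | mul_left x hx y _ ih =>
    rcases hx with hx | hx
    · obtain ⟨n, hn, hy⟩ := ih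
      exact ⟨n, hn, dc_mul_left hx hy⟩
    · exact step x hx y ih
  | inv_mul_cancel x hx y _ ih =>
    rcases hx with hx | hx
    · obtain ⟨n, hn, hy⟩ := ih
      exact ⟨n, hn, dc_mul_left (inv_mem hx) hy⟩
    · obtain ⟨n, hn, hy⟩ := ih
      have e : x⁻¹ * y = x * ((x * x)⁻¹ * y) := by group
      rw [e]
      exact step x hx _ ⟨n, hn, dc_mul_left (inv_mem (P.sq_mem x (hJ hx))) hy⟩

theorem parabolic_S : P.parabolic P.S = ⊤ := by
  rw [BNPair.parabolic, eq_top_iff, ← P.sup_eq_top]
  refine sup_le le_sup_left ?_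
  calc P.N = Subgroup.closure P.S ⊔ (P.B ⊓ P.N) := P.closure_sup.symm
    _ ≤ P.B ⊔ Subgroup.closure P.S := sup_le le_sup_right (inf_le_left.trans le_sup_left)

theorem bruhat (g : G) : ∃ w : W P, g ∈ cell w := by
  obtain ⟨n, hn, hg⟩ := bruhat_of_mem (P := P) le_rfl (g := g) (by simp [parabolic_S])
  exact ⟨mkW ((Subgroup.closure_le P.N).2 P.subset hn), hg⟩

theorem cell_inj_aux : ∀ (k : ℕ) (w w' : W P), len w = k → len w ≤ len w' →
    ∀ x, x ∈ cell w → x ∈ cell w' → w = w' := by
  intro k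
  induction k with
  | zero =>
    intro w w' hk _ x hx hx'
    obtain rfl := eq_one_of_len_eq_zero hk
    rw [cell_one] at hx
    obtain ⟨n, hn, rfl⟩ := exists_mkW w'
    symm
    rw [mkW_eq_one_iff]
    obtain ⟨b, hb, b', hb', rfl⟩ := mem_dc.1 hx'
    have := mul_mem (mul_mem (inv_mem hb) hx) (inv_mem hb')
    simpa [mul_assoc] using this
  | succ k ih =>
    intro w w' hk hle x hx hx'
    have hw : w ≠ 1 := by
      rintro rfl
      rw [len_one] at hk
      omega
    obtain ⟨s, v, rfl, hv⟩ := exists_gen_mul hw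
    obtain ⟨m, hm, rfl⟩ := exists_mkW v
    have hsm : (s : G) * m ∈ cell (gen s * mkW hm) := by
      rw [gen, ← mkW_mul]; exact mem_cell_mkW _
    rw [cell_eq_of_mem hx hx'] at hsm
    have hsinv : (s : G)⁻¹ ∈ cell (gen s) := by
      simpa [gen_inv] using inv_mem_cell (mem_cell_gen s)
    have hkey := mul_cell hsinv hsm
    rw [inv_mul_cancel_left] at hkey
    have hlv : len (mkW hm) = k := by omega
    rcases hkey with h | h
    · have := ih _ (gen s * w') hlv (by have := len_le_gen_mul s w'; omega) m (mem_cell_mkW hm) h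
      rw [this, gen_mul_cancel]
    · have := ih _ w' hlv (by omega) m (mem_cell_mkW hm) h
      rw [this] at hk hle hlv
      omega

theorem cell_inj {w w' : W P} {x : G} (hx : x ∈ cell w) (hx' : x ∈ cell w') : w = w' := by
  rcases le_total (len w) (len w') with h | h
  · exact cell_inj_aux _ w w' rfl h x hx hx'
  · exact (cell_inj_aux _ w' w rfl h x hx' hx).symm

theorem not_mem_cell_both {s : P.S} {w : W P} {x : G} (hx : x ∈ cell (gen s * w))
    (hx' : x ∈ cell w) : False :=
  gen_ne_one s (mul_eq_right.1 (cell_inj hx hx'))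

theorem mul_cell_of_le_aux : ∀ (k : ℕ) (s : P.S) (w : W P), len w = k →
    len w ≤ len (gen s * w) → ∀ x y, x ∈ cell (gen s) → y ∈ cell w →
      x * y ∈ cell (gen s * w) := by
  intro k
  induction k with
  | zero =>
    intro s w hk _ x y hx hy
    obtain rfl := eq_one_of_len_eq_zero hk
    rw [cell_one] at hy
    rw [mul_one]
    exact mul_right_cell hx hy
  | succ k ih =>
    intro s w hk hle x y hx hy
    rcases mul_cell hx hy with h | h
    · exact h
    exfalso
    have hw : w ≠ 1 := by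
      rintro rfl
      rw [len_one] at hk
      omega
    obtain ⟨r, v, rfl, hv⟩ := exists_mul_gen hw
    obtain ⟨m, hm, rfl⟩ := exists_mkW v
    rw [gen, ← mkW_mul] at hy
    obtain ⟨b, hb, b', hb', rfl⟩ := mem_dc.1 hy
    have hy1 : b * m ∈ cell (mkW hm) := mul_left_cell hb (mem_cell_mkW hm)
    have hy2 : (r : G) * b' ∈ cell (gen r) := mul_right_cell (mem_cell_gen r) hb'
    have hle' : len (mkW hm) ≤ len (gen s * mkW hm) := by
      obtain ⟨L, hL, hL'⟩ := exists_reduced (gen s * mkW hm)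
      have h1 := len_wordW_le (L ++ [r])
      rw [wordW_append, wordW_singleton, hL', mul_assoc] at h1
      simp only [List.length_append, List.length_singleton] at h1
      omega
    have h2 := cell_mul (ih s _ (by omega) hle' x (b * m) hx hy1) hy2
    have e : x * (b * m) * ((r : G) * b') = x * (b * (m * r) * b') := by group
    rw [e, mul_assoc] at h2
    rcases h2 with h2 | h2
    · exact not_mem_cell_both h2 h
    · have heq := cell_inj h h2
      rw [heq, gen_mul_cancel] at hle
      rw [heq] at hv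
      omega

theorem mul_cell_of_le {s : P.S} {w : W P} (hle : len w ≤ len (gen s * w)) {x y : G}
    (hx : x ∈ cell (gen s)) (hy : y ∈ cell w) : x * y ∈ cell (gen s * w) :=
  mul_cell_of_le_aux _ s w rfl hle x y hx hy

theorem exists_sbs (s : P.S) : ∃ b ∈ P.B, (s : G) * b * s ∈ cell (gen s) := by
  obtain ⟨b, hb, hb'⟩ := exists_conj_not_mem s
  refine ⟨b, hb, ?_⟩
  rcases mul_cell (mul_right_cell (mem_cell_gen s) hb) (mem_cell_gen s) with h | h
  · rw [gen_mul_self, cell_one] at h
    exact absurd h hb'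
  · exact h

theorem len_gen_mul_ne (s : P.S) (w : W P) : len (gen s * w) ≠ len w := by
  intro heq
  obtain ⟨b, hb, hbs⟩ := exists_sbs s
  obtain ⟨n, hn, rfl⟩ := exists_mkW w
  have h1 := mul_cell_of_le (le_of_eq heq.symm) hbs (mem_cell_mkW hn)
  have hsn : (s : G) * n ∈ cell (gen s * mkW hn) := by rw [gen, ← mkW_mul]; exact mem_cell_mkW _
  have h2 := mul_cell_of_le (w := gen s * mkW hn) (by rw [gen_mul_cancel, heq])
    (mul_right_cell (mem_cell_gen s) hb) hsn
  rw [gen_mul_cancel] at h2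
  have e : (s : G) * b * ((s : G) * n) = (s : G) * b * s * n := by group
  rw [e] at h2
  exact not_mem_cell_both h1 h2

theorem exists_mem_cell_of_lt {s : P.S} {w : W P} (hlt : len (gen s * w) < len w) {y : G}
    (hy : y ∈ cell w) : ∃ x ∈ cell (gen s), x * y ∈ cell w := by
  obtain ⟨c, hc, hcs⟩ := exists_sbs s
  obtain ⟨n, hn, rfl⟩ := exists_mkW w
  obtain ⟨b, hb, b', hb', rfl⟩ := mem_dc.1 hy
  refine ⟨(s : G) * c * b⁻¹, mul_right_cell (mul_right_cell (mem_cell_gen s) hc) (inv_mem hb), ?_⟩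
  have hm : (s : G)⁻¹ * n * b' ∈ cell (gen s * mkW hn) := by
    have h : gen s * mkW hn = mkW (mul_mem (inv_mem (P.subset s.2)) hn) := by
      rw [mkW_mul (inv_mem (P.subset s.2)) hn, mkW_inv (P.subset s.2), ← gen, gen_inv]
    rw [h]
    exact dc_mul_right (mem_dc_self _) hb'
  have h := mul_cell_of_le (by rw [gen_mul_cancel]; omega) hcs hm
  rw [gen_mul_cancel] at h
  have e : (s : G) * c * s * ((s : G)⁻¹ * n * b') = (s : G) * c * b⁻¹ * (b * n * b') := by group
  rwa [e] at h

/-- Exchange condition. -/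
theorem exchange {L : List P.S} (hL : len (wordW L) = L.length) {s : P.S}
    (hlt : len (gen s * wordW L) < len (wordW L)) :
    ∃ j < L.length, gen s * wordW L = wordW (L.eraseIdx j) := by
  induction L using List.reverseRecOn with
  | nil => simp [len_one] at hlt
  | append_singleton L r ih =>
    simp only [wordW_append, wordW_singleton, List.length_append, List.length_singleton] at hL hlt
    have hL' : len (wordW L) = L.length := by
      have h1 := len_wordW_le L
      have h2 : len (wordW L * gen r) ≤ len (wordW L) + 1 := by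
        rw [← len_inv, mul_inv_rev, gen_inv]
        have := len_gen_mul_le r (wordW L)⁻¹
        rwa [len_inv] at this
      omega
    by_cases hc : len (gen s * wordW L) < len (wordW L)
    · obtain ⟨j, hj, hj'⟩ := ih hL' hc
      refine ⟨j, by simp; omega, ?_⟩
      rw [List.eraseIdx_append_of_lt_length hj, wordW_append, wordW_append, wordW_singleton,
        ← mul_assoc, hj']
    · obtain ⟨m, hm, hmw⟩ := exists_mkW (wordW L)
      have hm' : m ∈ cell (wordW L) := hmw ▸ mem_cell_mkW hm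
      have hmr : m * r ∈ cell (wordW L * gen r) := by
        rw [← hmw, gen, ← mkW_mul hm (P.subset r.2)]
        exact mem_cell_mkW _
      simp only [wordW_append, wordW_singleton]
      obtain ⟨x, hx, hxy⟩ := exists_mem_cell_of_lt hlt hmr
      have h2 := cell_mul (mul_cell_of_le (Nat.le_of_not_lt hc) hx hm') (mem_cell_gen r)
      rw [mul_assoc x m] at h2
      rcases h2 with h2 | h2
      · rw [mul_assoc] at h2
        exact (not_mem_cell_both h2 hxy).elim
      · refine ⟨L.length, by simp, ?_⟩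
        have heq := cell_inj hxy h2
        rw [List.eraseIdx_append_of_length_le le_rfl]
        simp [heq, gen_mul_cancel]

/-- Every word has a reduced sublist with the same product. -/
theorem exists_reduced_sublist (L : List P.S) :
    ∃ L' : List P.S, L'.Sublist L ∧ wordW L' = wordW L ∧ len (wordW L') = L'.length := by
  induction L with
  | nil => exact ⟨[], List.Sublist.refl _, rfl, len_one⟩
  | cons s L ih =>
    obtain ⟨L', hsub, hprod, hred⟩ := ih
    have h1 := len_gen_mul_ne s (wordW L')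
    have h2 := len_gen_mul_le s (wordW L')
    have h3 := len_le_gen_mul s (wordW L')
    by_cases hc : len (gen s * wordW L') < len (wordW L')
    · obtain ⟨j, hj, hj'⟩ := exchange hred hc
      refine ⟨L'.eraseIdx j, ((List.eraseIdx_sublist _ _).trans hsub).trans (List.sublist_cons_self _ _),
        by rw [← hj', wordW_cons, hprod], ?_⟩
      rw [← hj', List.length_eraseIdx, if_pos hj]
      omega
    · refine ⟨s :: L', hsub.cons_cons s, by rw [wordW_cons, wordW_cons, hprod], ?_⟩
      rw [wordW_cons, List.length_cons]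
      omega

end Cfsg.Agent.BN.Basic
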