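import Mathlib

/-!
A group generated by involutions satisfying the exchange condition is a Coxeter group
(Matsumoto's theorem).
-/

set_option autoImplicit false

namespace Cfsg.Agent.BN.Matsumoto

variable {ι W : Type*} [Group W] (g : ι → W)

/-- The alternating word `s t s …` of length `n`. -/
def altW : ℕ → ι → ι → List ι
  | 0, _, _ => []
  | n + 1, s, t => s :: altW n t s

@[simp] theorem length_altW (n : ℕ) (s t : ι) : (altW n s t).length = n := by
  induction n generalizing s t with
  | zero => rfl
  | succ n ih => simp [altW, ih]

theorem altW_prod_div {V : Type*} [Group V] (f : ι → V) {s t : ι} (hs : f s * f s = 1)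
    (ht : f t * f t = 1) (n : ℕ) :
    ((altW n s t).map f).prod * ((altW n t s).map f).prod⁻¹ = (f s * f t) ^ n := by
  induction n generalizing s t with
  | zero => simp [altW]
  | succ n ih =>
    simp only [altW, List.map_cons, List.prod_cons, mul_inv_rev]
    have h := ih ht hs
    rw [inv_eq_of_mul_eq_one_right ht]
    calc f s * ((altW n t s).map f).prod * (((altW n s t).map f).prod⁻¹ * f t)
        = f s * (((altW n t s).map f).prod * ((altW n s t).map f).prod⁻¹) * f t := by group
      _ = f s * (f t * f s) ^ n * f t := by rw [h]
      _ = (f s * f t) ^ (n + 1) := by rw [← mul_pow_mul, mul_assoc, ← pow_succ]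

/-- A word is reduced when no shorter word has the same product. -/
def Red (L : List ι) : Prop := ∀ L' : List ι, (L'.map g).prod = (L.map g).prod → L.length ≤ L'.length

theorem red_tail {x : ι} {L : List ι} (h : Red g (x :: L)) : Red g L := by
  intro L' hL'
  simpa using h (x :: L') (by simp [hL'])

theorem red_init {x : ι} {L : List ι} (h : Red g (L ++ [x])) : Red g L := by
  intro L' hL'
  simpa using h (L' ++ [x]) (by simp [hL'])

/-- The exchange condition. -/
def Exchange : Prop := ∀ (s : ι) (L : List ι), Red g L → ¬ Red g (s :: L) →
  ∃ j < L.length, g s * (L.map g).prod = ((L.eraseIdx j).map g).prod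

variable {g}

section
variable (hex : Exchange g) (h2 : ∀ s, g s * g s = 1) {V : Type*} [Group V] (f : ι → V)
  (hf2 : ∀ s, f s * f s = 1) (hfm : ∀ (s t : ι) (n : ℕ), (g s * g t) ^ n = 1 → (f s * f t) ^ n = 1)

include hex h2 hf2 hfm

theorem claim_of_ih {q : ℕ}
    (ih : ∀ a b : List ι, a.length = q → b.length = q → Red g a → Red g b →
      (a.map g).prod = (b.map g).prod → (a.map f).prod = (b.map f).prod) :
    ∀ (m k : ℕ) (s t : ι) (a' b' : List ι), b'.length = m → a'.length = q → k + m = q + 1 →
      1 ≤ k → Red g (s :: a') → Red g (altW k t s ++ b') →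
      ((s :: a').map g).prod = ((altW k t s ++ b').map g).prod →
      ((s :: a').map f).prod = ((altW k t s ++ b').map f).prod := by
  intro m
  induction m with
  | zero | succ m ihm =>
    intro k s t a' b' hb' ha' hkm hk hra hrb heq
    obtain ⟨b, hbdef⟩ : ∃ b, altW k t s ++ b' = b := ⟨_, rfl⟩
    rw [hbdef] at hrb heq ⊢
    have hblen : b.length = q + 1 := by rw [← hbdef, List.length_append, length_altW, hb', hkm]
    have hnr : ¬ Red g (s :: b) := by
      intro h
      have h1 := h a' (by rw [List.map_cons, List.prod_cons, ← heq, List.map_cons, List.prod_cons,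
        ← mul_assoc, h2, one_mul])
      simp only [List.length_cons] at h1
      omega
    obtain ⟨j, hj, hje⟩ := hex s b hrb hnr
    have hcg : ((s :: b.eraseIdx j).map g).prod = (b.map g).prod := by
      simp only [List.map_cons, List.prod_cons, ← hje, ← mul_assoc, h2, one_mul]
    have hclen : (b.eraseIdx j).length = q := by rw [List.length_eraseIdx, if_pos hj, hblen]; omega
    have hrc : Red g (s :: b.eraseIdx j) := by
      intro L' hL'
      have := hrb L' (hL'.trans hcg)
      simp only [List.length_cons, hclen]
      omega
    have hac : ((s :: a').map f).prod = ((s :: b.eraseIdx j).map f).prod := by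
      simp only [List.map_cons, List.prod_cons]
      congr 1
      refine ih a' _ ha' hclen (red_tail g hra) (red_tail g hrc) ?_
      have h := heq.trans hcg.symm
      simpa using h
    obtain ⟨b₀, z, rfl⟩ : ∃ b₀ z, b = b₀ ++ [z] := by
      refine ⟨b.dropLast, b.getLast (by intro h; simp [h] at hblen), ?_⟩
      exact (List.dropLast_append_getLast _).symm
    rw [List.length_append, List.length_singleton] at hblen hj
    by_cases hjlt : j < b₀.length
    · rw [hac]
      rw [List.eraseIdx_append_of_lt_length hjlt, ← List.cons_append] at hcg hrc ⊢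
      simp only [List.map_append, List.prod_append]
      congr 1
      refine ih _ _ ?_ (by omega) (red_init g hrc) (red_init g hrb) (mul_right_cancel (b := g z) (by simpa [List.map_append, mul_assoc] using hcg))
      rw [List.length_cons, List.length_eraseIdx, if_pos hjlt]
      omega
    · have hjeq : j = b₀.length := by omega
      subst hjeq
      rw [hac]
      have hc : b₀ ++ [z] = altW k t s ++ b' := hbdef.symm
      have he : (b₀ ++ [z]).eraseIdx b₀.length = b₀ := by
        rw [List.eraseIdx_append_of_length_le le_rfl]; simp
      rw [he] at hcg hrc ⊢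
      first
      | -- no remainder: both words alternate
        obtain rfl := List.eq_nil_of_length_eq_zero hb'
        rw [List.append_nil] at hc
        have hb0 : s :: b₀ = altW k s t := by
          have key : ∀ (k : ℕ) (s t : ι) (b₀ : List ι) (z : ι), b₀ ++ [z] = altW k t s →
              s :: b₀ = altW k s t := by
            intro k
            induction k with
            | zero => intro s t b₀ z h; simp [altW] at h
            | succ k ihk =>
              intro s t b₀ z h
              cases b₀ with
              | nil =>
                simp only [List.nil_append, altW, List.cons.injEq] at h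
                cases k with
                | zero => simp [altW]
                | succ k => simp [altW] at h
              | cons x b₀ =>
                simp only [List.cons_append, altW, List.cons.injEq] at h
                rw [h.1, ihk t s b₀ z h.2]
                simp [altW]
          exact key k s t b₀ z hc
        rw [hb0, hc]
        rw [hb0, hc] at hcg
        have hgk : (g s * g t) ^ k = 1 := by
          rw [← altW_prod_div g (h2 s) (h2 t) k, hcg, mul_inv_cancel]
        have := altW_prod_div f (hf2 s) (hf2 t) k
        rw [hfm s t k hgk, mul_inv_eq_one] at this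
        exact this
      | -- lengthen the alternating prefix
        obtain ⟨b'', z', rfl⟩ : ∃ b'' z', b' = b'' ++ [z'] := by
          refine ⟨b'.dropLast, b'.getLast (by intro h; simp [h] at hb'), ?_⟩
          exact (List.dropLast_append_getLast _).symm
        rw [← List.append_assoc] at hc
        obtain ⟨hb0, hz⟩ := List.append_inj' hc rfl
        rw [List.length_append, List.length_singleton] at hb'
        cases k with
        | zero => omega
        | succ k =>
          have hbt : b₀ ++ [z] = t :: (altW k s t ++ b'' ++ [z']) := by rw [hc]; simp [altW]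
          rw [hbt] at hcg hrb ⊢
          have hsb : s :: b₀ = altW (k + 1 + 1) s t ++ b'' := by rw [hb0]; simp [altW]
          rw [hsb] at hcg hrc ⊢
          refine (ihm (k + 1 + 1) t s _ b'' (by omega) ?_ (by omega) (by omega) hrb hrc hcg.symm).symm
          simp [List.length_append, length_altW]
          omega

theorem prod_eq_of_red : ∀ (q : ℕ) (a b : List ι), a.length = q → b.length = q → Red g a → Red g b →
    (a.map g).prod = (b.map g).prod → (a.map f).prod = (b.map f).prod := by
  intro q
  induction q with
  | zero =>
    intro a b ha hb _ _ _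
    simp [List.eq_nil_of_length_eq_zero ha, List.eq_nil_of_length_eq_zero hb]
  | succ q ih =>
    intro a b ha hb hra hrb heq
    obtain ⟨s, a', rfl⟩ := List.exists_cons_of_length_eq_add_one ha
    obtain ⟨t, b', rfl⟩ := List.exists_cons_of_length_eq_add_one hb
    simp only [List.length_cons] at ha hb
    exact claim_of_ih hex h2 f hf2 hfm ih q 1 s t a' b' (by omega) (by omega) (by omega) le_rfl hra
      (by simpa [altW] using hrb) (by simpa [altW] using heq) |>.trans (by simp [altW])

theorem exists_red (L : List ι) : ∃ L' : List ι, Red g L' ∧ (L'.map g).prod = (L.map g).prod ∧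
    (L'.map f).prod = (L.map f).prod := by
  induction L with
  | nil => exact ⟨[], fun L' _ => by simp, rfl, rfl⟩
  | cons s L ih =>
    obtain ⟨L₁, hr, hg, hf⟩ := ih
    by_cases hsr : Red g (s :: L₁)
    · exact ⟨s :: L₁, hsr, by simp [hg], by simp [hf]⟩
    obtain ⟨j, hj, hje⟩ := hex s L₁ hr hsr
    have hgc : ((s :: L₁.eraseIdx j).map g).prod = (L₁.map g).prod := by
      simp only [List.map_cons, List.prod_cons, ← hje, ← mul_assoc, h2, one_mul]
    have hlen : (s :: L₁.eraseIdx j).length = L₁.length := by
      rw [List.length_cons, List.length_eraseIdx, if_pos hj]; omega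
    have hrc : Red g (s :: L₁.eraseIdx j) := fun L' hL' => hlen ▸ hr L' (hL'.trans hgc)
    have hfc := prod_eq_of_red hex h2 f hf2 hfm _ _ _ hlen rfl hrc hr hgc
    refine ⟨L₁.eraseIdx j, red_tail g hrc, by rw [← hje]; simp [hg], ?_⟩
    simp only [List.map_cons, List.prod_cons] at hfc ⊢
    rw [← hf, ← hfc, ← mul_assoc, hf2, one_mul]

theorem prod_eq_one (L : List ι) (h : (L.map g).prod = 1) : (L.map f).prod = 1 := by
  obtain ⟨L', hr, hg, hf⟩ := exists_red hex h2 f hf2 hfm L
  have := hr [] (by simp [hg, h])
  rw [← hf, List.eq_nil_of_length_eq_zero (Nat.le_zero.1 this)]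
  simp

end

theorem exists_coxeterSystem (hinj : Function.Injective g) (hne : ∀ s, g s ≠ 1)
    (hgen : ∀ w, ∃ L : List ι, (L.map g).prod = w) (hex : Exchange g) (h2 : ∀ s, g s * g s = 1) :
    ∃ (M : CoxeterMatrix ι) (cs : CoxeterSystem M W), ∀ s, cs.simple s = g s := by
  let M : CoxeterMatrix ι :=
    { M := Matrix.of fun i j => orderOf (g i * g j)
      isSymm := by
        ext i j
        simp only [Matrix.transpose_apply, Matrix.of_apply]
        rw [← orderOf_inv, mul_inv_rev, inv_eq_of_mul_eq_one_right (h2 i),
          inv_eq_of_mul_eq_one_right (h2 j)]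
      diagonal := fun i => by simp [h2]
      off_diagonal := fun i j hij h => by
        simp only [Matrix.of_apply, orderOf_eq_one_iff, mul_eq_one_iff_eq_inv,
          inv_eq_of_mul_eq_one_right (h2 j)] at h
        exact hij (hinj h) }
  have hlift : M.IsLiftable g := fun i j => by
    show (g i * g j) ^ orderOf (g i * g j) = 1
    exact pow_orderOf_eq_one _
  let cs0 := M.toCoxeterSystem
  let π : M.Group →* W := cs0.lift ⟨g, hlift⟩
  have hπ : ∀ i, π (cs0.simple i) = g i := fun i => cs0.lift_apply_simple hlift i
  have hπL : ∀ L : List ι, π ((L.map cs0.simple).prod) = (L.map g).prod := by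
    intro L
    rw [map_list_prod, List.map_map]
    congr 1
    exact List.map_congr_left fun i _ => hπ i
  have hsurj : Function.Surjective π := fun w => by
    obtain ⟨L, hL⟩ := hgen w
    exact ⟨_, (hπL L).trans hL⟩
  have hinjπ : Function.Injective π := by
    rw [injective_iff_map_eq_one]
    intro x hx
    obtain ⟨L, rfl⟩ : ∃ L : List ι, (L.map cs0.simple).prod = x := by
      obtain ⟨L, hL⟩ := cs0.wordProd_surjective x
      exact ⟨L, hL⟩
    rw [hπL] at hx
    refine prod_eq_one hex h2 cs0.simple (fun s => cs0.simple_mul_simple_self s) (fun s t n hn => ?_) L hx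
    obtain ⟨c, rfl⟩ := orderOf_dvd_of_pow_eq_one hn
    rw [pow_mul]
    have : (cs0.simple s * cs0.simple t) ^ M s t = 1 := cs0.simple_mul_simple_pow s t
    rw [show (cs0.simple s * cs0.simple t) ^ orderOf (g s * g t) = 1 from this, one_pow]
  refine ⟨M, ⟨(MulEquiv.ofBijective π ⟨hinjπ, hsurj⟩).symm⟩, fun s => ?_⟩
  exact hπ s

end Cfsg.Agent.BN.Matsumoto
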