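import Cfsg.Agent.Lib.BN.Basic

/-!
Standard parabolic subgroups of a group with a (B, N)-pair.
-/

set_option autoImplicit false

open scoped Pointwise

namespace Cfsg.Agent.BN.Parabolic

open Cfsg.Agent.BN.Basic

variable {G : Type*} [Group G] {P : Cfsg.BNPair G}

theorem B_le_parabolic (J : Set G) : P.B ≤ P.parabolic J := le_sup_left

theorem mem_parabolic_of_mem {J : Set G} {x : G} (hx : x ∈ J) : x ∈ P.parabolic J :=
  le_sup_right (a := P.B) (Subgroup.subset_closure hx)

theorem mem_N_of_mem_closure {J : Set G} (hJ : J ⊆ P.S) {n : G} (hn : n ∈ Subgroup.closure J) :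
    n ∈ P.N :=
  (Subgroup.closure_le P.N).2 (hJ.trans P.subset) hn

theorem mem_parabolic_iff {J : Set G} (hJ : J ⊆ P.S) (g : G) :
    g ∈ P.parabolic J ↔ ∃ n ∈ Subgroup.closure J, g ∈ dc P n := by
  refine ⟨bruhat_of_mem hJ, ?_⟩
  rintro ⟨n, hn, hg⟩
  obtain ⟨b, hb, b', hb', rfl⟩ := mem_dc.1 hg
  exact mul_mem (mul_mem (B_le_parabolic J hb) (le_sup_right (a := P.B) hn)) (B_le_parabolic J hb')

theorem cell_subset_of_nonempty {M : Subgroup G} (hM : P.B ≤ M) {w : W P} {x : G} (hx : x ∈ cell w)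
    (hxM : x ∈ M) {y : G} (hy : y ∈ cell w) : y ∈ M := by
  obtain ⟨n, hn, rfl⟩ := exists_mkW w
  obtain ⟨b, hb, b', hb', rfl⟩ := mem_dc.1 hx
  obtain ⟨c, hc, c', hc', rfl⟩ := mem_dc.1 hy
  have h : n ∈ M := by
    have := mul_mem (mul_mem (inv_mem (hM hb)) hxM) (inv_mem (hM hb'))
    simpa [mul_assoc] using this
  exact mul_mem (mul_mem (hM hc) h) (hM hc')

/-- If `l(s w) < l(w)` then `s` lies in the subgroup generated by `B` and `n B n⁻¹`, `n ∈ w`. -/
theorem gen_mem_of_lt {n : G} (hn : n ∈ P.N) {s : P.S}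
    (hlt : len (gen s * mkW hn) < len (mkW hn)) :
    (s : G) ∈ P.B ⊔ P.B.map (MulAut.conj n).toMonoidHom := by
  obtain ⟨x, hx, hxn⟩ := exists_mem_cell_of_lt hlt (mem_cell_mkW hn)
  obtain ⟨b, hb, b', hb', h⟩ := mem_dc.1 hxn
  refine cell_subset_of_nonempty le_sup_left hx ?_ (mem_cell_gen s)
  have e : x = b * (n * b' * n⁻¹) := eq_mul_inv_of_mul_eq h |>.trans (by group)
  rw [e]
  exact mul_mem (Subgroup.mem_sup_left hb) (Subgroup.mem_sup_right ⟨b', hb', by simp⟩)

/-- A subgroup containing `B` and meeting the cell of `w` contains the cell of `gen s` whenever `s`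
shortens `w`. -/
theorem gen_mem_of_lt' {M : Subgroup G} (hM : P.B ≤ M) {n : G} (hn : n ∈ P.N) (hnM : n ∈ M)
    {s : P.S} (hlt : len (gen s * mkW hn) < len (mkW hn)) : (s : G) ∈ M := by
  refine (sup_le hM ?_ : _ ≤ M) (gen_mem_of_lt hn hlt)
  rintro _ ⟨b, hb, rfl⟩
  simpa using mul_mem (mul_mem hnM (hM hb)) (inv_mem hnM)

/-- All letters of a reduced word lie in every overgroup of `B` meeting the cell. -/
theorem letters_mem {M : Subgroup G} (hM : P.B ≤ M) :
    ∀ (L : List P.S), len (wordW L) = L.length → ∀ (n : G) (hn : n ∈ P.N), mkW hn = wordW L →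
      n ∈ M → ∀ s ∈ L, (s : G) ∈ M := by
  intro L
  induction L with
  | nil => simp
  | cons a L ih =>
    intro hred n hn hw hnM
    have hlt : len (gen a * mkW hn) < len (mkW hn) := by
      rw [hw, hred, wordW_cons, gen_mul_cancel]
      have := len_wordW_le L
      simp only [List.length_cons]
      omega
    have haM := gen_mem_of_lt' hM hn hnM hlt
    intro s hs
    rcases List.mem_cons.1 hs with rfl | hs
    · exact haM
    · refine ih ?_ ((a : G)⁻¹ * n) (mul_mem (inv_mem (P.subset a.2)) hn) ?_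
        (mul_mem (inv_mem haM) hnM) s hs
      · have h1 := len_wordW_le L
        have h2 := len_gen_mul_le a (wordW L)
        simp only [wordW_cons, List.length_cons] at hred
        omega
      · rw [mkW_mul (inv_mem (P.subset a.2)) hn, mkW_inv (P.subset a.2), ← gen, gen_inv, hw,
          wordW_cons, gen_mul_cancel]

/-- A word in `J` gives a reduced word in `J`. -/
theorem exists_reduced_word_of_mem {J : Set G} (hJ : J ⊆ P.S) {n : G}
    (hn : n ∈ Subgroup.closure J ⊔ (P.B ⊓ P.N)) :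
    ∃ hnN : n ∈ P.N, ∃ L : List P.S, (∀ s ∈ L, (s : G) ∈ J) ∧ mkW hnN = wordW L ∧
      len (wordW L) = L.length := by
  obtain ⟨hnN, L, hL, hw⟩ := exists_word_of_mem hJ hn
  obtain ⟨L', hsub, hprod, hred⟩ := exists_reduced_sublist L
  exact ⟨hnN, L', fun s hs => hL s (hsub.subset hs), hw.trans hprod.symm, hred⟩

theorem gen_mem_closure {K : Set G} (hK : K ⊆ P.S) {s : G} (hs : s ∈ P.S)
    (h : s ∈ Subgroup.closure K ⊔ (P.B ⊓ P.N)) : s ∈ K := by
  obtain ⟨hN, L, hL, hw, hred⟩ := exists_reduced_word_of_mem hK h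
  have hgs : mkW hN = gen ⟨s, hs⟩ := rfl
  have hlen : len (gen (⟨s, hs⟩ : P.S)) = 1 := by
    have h1 := len_wordW_le [(⟨s, hs⟩ : P.S)]
    rw [wordW_singleton, List.length_singleton] at h1
    rcases Nat.le_one_iff_eq_zero_or_eq_one.1 h1 with h0 | h0
    · exact absurd (eq_one_of_len_eq_zero h0) (gen_ne_one _)
    · exact h0
  rw [← hw, hgs, hlen] at hred
  match L, hred with
  | [r], _ =>
    rw [wordW_singleton, hgs] at hw
    have := hL r (List.mem_singleton_self r)
    rwa [← gen_injective hw] at this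

theorem mem_iff_mem_parabolic {K : Set G} (hK : K ⊆ P.S) {s : G} (hs : s ∈ P.S) :
    s ∈ P.parabolic K ↔ s ∈ K := by
  refine ⟨fun h => gen_mem_closure hK hs ?_, mem_parabolic_of_mem⟩
  obtain ⟨n, hn, hsn⟩ := bruhat_of_mem hK h
  have hnN := mem_N_of_mem_closure hK hn
  have e : mkW (P.subset hs) = mkW hnN :=
    cell_inj (mem_cell_mkW (P.subset hs)) (show s ∈ cell (mkW hnN) from hsn)
  rw [mkW_eq_iff] at e
  have e' : s = n * (n⁻¹ * s) := by group
  rw [e']
  refine mul_mem (Subgroup.mem_sup_left hn) (Subgroup.mem_sup_right (Subgroup.mem_inf.2 ⟨?_, mul_mem (inv_mem hnN) (P.subset hs)⟩))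
  simpa using inv_mem e

theorem eq_of_parabolic_eq {J K : Set G} (hJ : J ⊆ P.S) (hK : K ⊆ P.S)
    (h : P.parabolic J = P.parabolic K) : J = K := by
  ext s
  constructor
  · intro hs; exact (mem_iff_mem_parabolic hK (hJ hs)).1 (h ▸ mem_parabolic_of_mem hs)
  · intro hs; exact (mem_iff_mem_parabolic hJ (hK hs)).1 (h ▸ mem_parabolic_of_mem hs)

theorem le_parabolic_mem {M : Subgroup G} (hM : P.B ≤ M) :
    M = P.parabolic {s | s ∈ P.S ∧ s ∈ M} := by
  apply le_antisymm
  · intro g hg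
    obtain ⟨w, hw⟩ := bruhat (P := P) g
    obtain ⟨L, hL, hwL⟩ := exists_reduced w
    obtain ⟨n, hn, hnw⟩ := exists_mkW w
    have hnM : n ∈ M := cell_subset_of_nonempty hM hw hg (hnw ▸ mem_cell_mkW hn)
    have hmem : ∀ s ∈ L, (s : G) ∈ M :=
      letters_mem hM L (by rw [hwL, hL]) n hn (hnw.trans hwL.symm) hnM
    have key : ∀ L' : List P.S, (∀ s ∈ L', (s : G) ∈ M) →
        ∃ m ∈ P.parabolic {s | s ∈ P.S ∧ s ∈ M}, m ∈ cell (wordW L') := by
      intro L'
      induction L' with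
      | nil => exact fun _ => ⟨1, one_mem _, by rw [wordW_nil, cell_one]; exact one_mem P.B⟩
      | cons a L' ih =>
        intro h
        obtain ⟨m, hm, hmc⟩ := ih fun s hs => h s (List.mem_cons_of_mem a hs)
        obtain ⟨m', hm', hm''⟩ := exists_mkW (wordW L')
        rw [← hm''] at hmc
        refine ⟨(a : G) * m', mul_mem (mem_parabolic_of_mem ⟨a.2, h a List.mem_cons_self⟩)
          (cell_subset_of_nonempty le_sup_left hmc hm (mem_cell_mkW hm')), ?_⟩
        rw [wordW_cons, ← hm'', gen, ← mkW_mul]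
        exact mem_cell_mkW _
    obtain ⟨m, hm, hmc⟩ := key L hmem
    rw [hwL] at hmc
    exact cell_subset_of_nonempty le_sup_left hmc hm hw
  · exact sup_le hM ((Subgroup.closure_le M).2 fun s hs => hs.2)

theorem exists_parabolic (M : Subgroup G) (hM : P.B ≤ M) : ∃ J ⊆ P.S, M = P.parabolic J :=
  ⟨_, fun _ hs => hs.1, le_parabolic_mem hM⟩

/-- `n` lies in the subgroup generated by `B` and `n B n⁻¹`. -/
theorem mem_sup_conj {n : G} (hn : n ∈ P.N) : n ∈ P.B ⊔ P.B.map (MulAut.conj n).toMonoidHom := by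
  obtain ⟨k, hk⟩ : ∃ k, len (mkW hn) = k := ⟨_, rfl⟩
  induction k generalizing n with
  | zero =>
    exact Subgroup.mem_sup_left ((mkW_eq_one_iff hn).1 (eq_one_of_len_eq_zero hk))
  | succ k ih =>
    obtain ⟨s, v, hv, hlv⟩ := exists_gen_mul (w := mkW hn) (by
      intro h; rw [h, len_one] at hk; omega)
    have hs := gen_mem_of_lt hn (s := s) (by rw [hv] at hlv ⊢; rw [gen_mul_cancel]; omega)
    have hm : (s : G)⁻¹ * n ∈ P.N := mul_mem (inv_mem (P.subset s.2)) hn
    have hmv : mkW hm = v := by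
      rw [mkW_mul (inv_mem (P.subset s.2)) hn, mkW_inv (P.subset s.2), ← gen, gen_inv, hv,
        gen_mul_cancel]
    have h1 := ih hm (by rw [hmv]; omega)
    have h2 : P.B ⊔ P.B.map (MulAut.conj ((s : G)⁻¹ * n)).toMonoidHom ≤
        P.B ⊔ P.B.map (MulAut.conj n).toMonoidHom := by
      refine sup_le le_sup_left ?_
      rintro _ ⟨b, hb, rfl⟩
      have h3 : n * b * n⁻¹ ∈ P.B ⊔ P.B.map (MulAut.conj n).toMonoidHom :=
        Subgroup.mem_sup_right ⟨b, hb, by simp⟩
      simpa [mul_assoc] using mul_mem (mul_mem (inv_mem hs) h3) hs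
    simpa using mul_mem hs (h2 h1)

theorem sup_closure_eq {n : G} (hn : n ∈ P.N) :
    P.B ⊔ Subgroup.closure {n} = P.B ⊔ P.B.map (MulAut.conj n).toMonoidHom := by
  apply le_antisymm
  · refine sup_le le_sup_left ((Subgroup.closure_le _).2 ?_)
    rintro x rfl
    exact mem_sup_conj hn
  · refine sup_le le_sup_left ?_
    rintro _ ⟨b, hb, rfl⟩
    have h : n ∈ P.B ⊔ Subgroup.closure {n} := Subgroup.mem_sup_right (Subgroup.subset_closure rfl)
    simpa using mul_mem (mul_mem h (Subgroup.mem_sup_left hb)) (inv_mem h)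

theorem parabolic_conj_eq {J K : Set G} (g : G)
    (h : (P.parabolic J).map (MulAut.conj g).toMonoidHom = P.parabolic K) :
    g ∈ P.parabolic K ∧ P.parabolic J = P.parabolic K := by
  obtain ⟨w, hw⟩ := bruhat (P := P) g
  obtain ⟨n, hn, rfl⟩ := exists_mkW w
  obtain ⟨b, hb, b', hb', rfl⟩ := mem_dc.1 hw
  have hconj : ∀ x ∈ P.parabolic J, n * x * n⁻¹ ∈ P.parabolic K := by
    intro x hx
    have h1 : MulAut.conj (b * n * b') (b'⁻¹ * x * b') ∈ P.parabolic K :=
      h ▸ ⟨_, mul_mem (mul_mem (inv_mem (B_le_parabolic J hb')) hx) (B_le_parabolic J hb'), rfl⟩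
    have := mul_mem (mul_mem (inv_mem (B_le_parabolic K hb)) h1) (B_le_parabolic K hb)
    simpa [mul_assoc] using this
  have hnK : n ∈ P.parabolic K := by
    refine (sup_le (B_le_parabolic K) ?_ : _ ≤ P.parabolic K) (mem_sup_conj hn)
    rintro _ ⟨x, hx, rfl⟩
    simpa using hconj x (B_le_parabolic J hx)
  have hg : b * n * b' ∈ P.parabolic K :=
    mul_mem (mul_mem (B_le_parabolic K hb) hnK) (B_le_parabolic K hb')
  refine ⟨hg, le_antisymm ?_ ?_⟩
  · intro x hx
    have := mul_mem (mul_mem (inv_mem hnK) (hconj x hx)) hnK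
    simpa [mul_assoc] using this
  · intro x hx
    have h1 : (b * n * b') * x * (b * n * b')⁻¹ ∈ P.parabolic K :=
      mul_mem (mul_mem hg hx) (inv_mem hg)
    rw [← h] at h1
    obtain ⟨y, hy, hyx⟩ := h1
    have : y = x := (MulAut.conj (b * n * b')).injective (by simpa [mul_assoc] using hyx)
    exact this ▸ hy

theorem normalizer_parabolic (J : Set G) :
    Subgroup.normalizer (P.parabolic J : Set G) = P.parabolic J := by
  refine le_antisymm (fun g hg => ?_) Subgroup.le_normalizer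
  refine (parabolic_conj_eq (J := J) g ?_).1
  ext x
  rw [Subgroup.mem_map_equiv, MulAut.conj_symm_apply]
  exact (Subgroup.mem_normalizer_iff''.1 hg x).symm

theorem parabolic_inf {J K : Set G} (hJ : J ⊆ P.S) (hK : K ⊆ P.S) :
    P.parabolic J ⊓ P.parabolic K = P.parabolic (J ∩ K) := by
  rw [le_parabolic_mem (P := P) (M := P.parabolic J ⊓ P.parabolic K)
    (le_inf (B_le_parabolic J) (B_le_parabolic K))]
  congr 1
  ext s
  simp only [Set.mem_ofPred_eq, Subgroup.mem_inf, Set.mem_inter_iff]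
  constructor
  · rintro ⟨hs, h1, h2⟩
    exact ⟨(mem_iff_mem_parabolic hJ hs).1 h1, (mem_iff_mem_parabolic hK hs).1 h2⟩
  · rintro ⟨h1, h2⟩
    exact ⟨hJ h1, mem_parabolic_of_mem h1, mem_parabolic_of_mem h2⟩

theorem parabolic_le_iff {J K : Set G} (hJ : J ⊆ P.S) (hK : K ⊆ P.S) :
    P.parabolic J ≤ P.parabolic K ↔ J ⊆ K := by
  refine ⟨fun h s hs => (mem_iff_mem_parabolic hK (hJ hs)).1 (h (mem_parabolic_of_mem hs)),
    fun h => sup_le_sup_left (Subgroup.closure_mono h) _⟩

/-- The parabolic subgroup of one generator is `B ∪ B s B`. -/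
theorem parabolic_singleton (s : P.S) :
    (P.parabolic {(s : G)} : Set G) = (P.B : Set G) ∪ dc P (s : G) := by
  have hs : ({(s : G)} : Set G) ⊆ P.S := Set.singleton_subset_iff.2 s.2
  ext x
  rw [SetLike.mem_coe, mem_parabolic_iff hs]
  constructor
  · rintro ⟨n, hn, hx⟩
    have key : ∀ y ∈ Subgroup.closure {(s : G)}, ∃ hy : y ∈ P.N, mkW hy = 1 ∨ mkW hy = gen s := by
      intro y hy
      induction hy using Subgroup.closure_induction with
      | mem y hy => exact ⟨hy ▸ P.subset s.2, Or.inr (by subst hy; rfl)⟩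
      | one => exact ⟨one_mem _, Or.inl rfl⟩
      | mul y z _ _ hy hz =>
        obtain ⟨h1, e1⟩ := hy
        obtain ⟨h2, e2⟩ := hz
        refine ⟨mul_mem h1 h2, ?_⟩
        rw [mkW_mul h1 h2]
        rcases e1 with e1 | e1 <;> rcases e2 with e2 | e2 <;> simp [e1, e2, gen_mul_self]
      | inv y _ hy =>
        obtain ⟨h1, e1⟩ := hy
        refine ⟨inv_mem h1, ?_⟩
        rw [mkW_inv h1]
        rcases e1 with e1 | e1 <;> simp [e1, gen_inv]
    obtain ⟨hnN, h | h⟩ := key n hn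
    · left
      rw [← cell_one, ← h]
      exact hx
    · right
      show x ∈ cell (gen s)
      rw [← h]
      exact hx
  · rintro (hx | hx)
    · exact ⟨1, one_mem _, mem_dc.2 ⟨x, hx, 1, one_mem _, by simp⟩⟩
    · exact ⟨s, Subgroup.subset_closure rfl, hx⟩

end Cfsg.Agent.BN.Parabolic
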