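import Cfsg.Agent.Lib.BN.Parabolic

/-!
Tits' simplicity criterion for groups with a (B, N)-pair.
-/

set_option autoImplicit false

open scoped Pointwise

namespace Cfsg.Agent.BN.Simple

open Cfsg.Agent.BN.Basic Cfsg.Agent.BN.Parabolic

variable {G : Type*} [Group G] {P : Cfsg.BNPair G}

theorem len_gen (s : P.S) : len (gen s) = 1 := by
  have h1 := len_wordW_le [s]
  rw [wordW_singleton, List.length_singleton] at h1
  rcases Nat.le_one_iff_eq_zero_or_eq_one.1 h1 with h | h
  · exact absurd (eq_one_of_len_eq_zero h) (gen_ne_one s)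
  · exact h

theorem len_gen_mul_gen {s r : P.S} (h : s ≠ r) : len (gen s * gen r) = 2 := by
  have h1 := len_gen_mul_le s (gen r)
  have h2 := len_gen_mul_ne s (gen r)
  have h3 : len (gen s * gen r) ≠ 0 := fun h0 => h (gen_injective (by
    have := eq_one_of_len_eq_zero h0
    rwa [mul_eq_one_iff_eq_inv, gen_inv] at this))
  rw [len_gen] at h1 h2
  omega

theorem gen_comm_of_normal (N : Subgroup G) [N.Normal] {r s : P.S}
    (hr : (r : G) ∈ N ⊔ P.B) (hs : (s : G) ∉ N ⊔ P.B) : gen r * gen s = gen s * gen r := by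
  have hsr : s ≠ r := fun h => hs (h ▸ hr)
  have hr' := hr
  rw [← SetLike.mem_coe, Subgroup.normal_mul N P.B] at hr'
  obtain ⟨h, hh, b, hb, hhb⟩ := hr'
  have hx : (s : G) * r * b⁻¹ * (s : G)⁻¹ ∈ N := by
    have e : (s : G) * r * b⁻¹ * (s : G)⁻¹ = (s : G) * h * (s : G)⁻¹ := by
      rw [← hhb]; group
    rw [e]
    exact Subgroup.Normal.conj_mem inferInstance h hh _
  have hsr_cell : (s : G) * r * b⁻¹ ∈ cell (gen s * gen r) :=
    mul_right_cell (by rw [gen, gen, ← mkW_mul]; exact mem_cell_mkW _) (inv_mem hb)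
  have hsinv : (s : G)⁻¹ ∈ cell (gen s) := by simpa [gen_inv] using inv_mem_cell (mem_cell_gen s)
  have hnot : ∀ z ∈ cell (gen s * gen r), z ∈ N ⊔ P.B → False := fun z hz hzM => by
    refine hs (letters_mem le_sup_right [s, r] (by simpa using len_gen_mul_gen hsr) ((s : G) * r)
      (mul_mem (P.subset s.2) (P.subset r.2)) (by rw [mkW_mul (P.subset s.2) (P.subset r.2)]; simp [gen])
      ?_ s List.mem_cons_self)
    refine cell_subset_of_nonempty le_sup_right hz hzM ?_
    rw [gen, gen, ← mkW_mul]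
    exact mem_cell_mkW _
  rcases cell_mul hsr_cell hsinv with hc | hc
  swap
  · exact (hnot _ hc (Subgroup.mem_sup_left hx)).elim
  obtain ⟨w, hw⟩ : ∃ w, gen s * gen r * gen s = w := ⟨_, rfl⟩
  rw [hw] at hc
  obtain ⟨L, hL, hLw⟩ := exists_reduced w
  obtain ⟨n, hn, hnw⟩ := exists_mkW w
  have hnM : n ∈ N ⊔ P.B :=
    cell_subset_of_nonempty le_sup_right hc (Subgroup.mem_sup_left hx) (hnw ▸ mem_cell_mkW hn)
  have hLM : ∀ u ∈ L, (u : G) ∈ N ⊔ P.B :=
    letters_mem le_sup_right L (by rw [hLw, hL]) n hn (hnw.trans hLw.symm) hnM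
  have hne1 : len w ≠ 2 := by
    intro h2
    have := len_gen_mul_ne s (gen r * gen s)
    rw [← len_inv w, ← hw] at h2
    simp only [mul_inv_rev, gen_inv] at h2
    rw [h2, len_gen_mul_gen hsr.symm] at this
    exact this rfl
  have hne0 : len w ≠ 0 := by
    intro h0
    have := eq_one_of_len_eq_zero h0
    rw [← hw, mul_eq_one_iff_eq_inv, gen_inv] at this
    exact gen_ne_one r (mul_eq_left.1 this)
  have hne3 : len w ≠ 3 := by
    intro h3
    refine hs (letters_mem le_sup_right [s, r, s] ?_ n hn ?_ hnM s List.mem_cons_self)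
    · rw [show wordW [s, r, s] = w by rw [← hw]; simp [mul_assoc]]; exact h3
    · rw [hnw, ← hw]; simp [mul_assoc]
  have hle : len w ≤ 3 := by
    rw [← hw]
    simpa [mul_assoc] using len_wordW_le [s, r, s]
  have hL1 : L.length = 1 := by omega
  obtain ⟨u, rfl⟩ := List.length_eq_one_iff.1 hL1
  rw [wordW_singleton] at hLw
  have hu : gen u * gen s = gen s * gen r := by rw [hLw, ← hw, mul_gen_cancel]
  have huM : (u : G) ∈ N ⊔ P.B := hLM u List.mem_cons_self
  have hus : u ≠ s := fun h => hs (h ▸ huM)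
  have hsub : ({(s : G), (r : G)} : Set G) ⊆ P.S :=
    Set.insert_subset s.2 (Set.singleton_subset_iff.2 r.2)
  have hur : (u : G) ∈ P.parabolic {(s : G), (r : G)} := by
    refine letters_mem (B_le_parabolic _) [u, s] (by simpa using len_gen_mul_gen hus) ((s : G) * r)
      (mul_mem (P.subset s.2) (P.subset r.2))
      (by rw [mkW_mul (P.subset s.2) (P.subset r.2)]; simpa [gen] using hu.symm)
      (mul_mem (mem_parabolic_of_mem (Set.mem_insert _ _))
        (mem_parabolic_of_mem (Set.mem_insert_of_mem _ (Set.mem_singleton (r : G))))) u List.mem_cons_self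
  rcases (mem_iff_mem_parabolic hsub u.2).1 hur with h | h
  · exact absurd (Subtype.ext h) hus
  · have : u = r := Subtype.ext h
    rw [← this] at hu ⊢
    exact hu

theorem le_B_or_sup_eq_top (hirr : P.Irreducible) (N : Subgroup G) [N.Normal] :
    N ≤ P.B ∨ N ⊔ P.B = ⊤ := by
  obtain ⟨J, hJdef⟩ : ∃ J : Set G, J = {s | s ∈ P.S ∧ s ∈ N ⊔ P.B} := ⟨_, rfl⟩
  have hM : N ⊔ P.B = P.parabolic J := hJdef ▸ le_parabolic_mem le_sup_right
  rcases J.eq_empty_or_nonempty with hJe | hJne
  · left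
    calc N ≤ N ⊔ P.B := le_sup_left
      _ = P.parabolic ∅ := by rw [hM, hJe]
      _ ≤ P.B := sup_le le_rfl (by simp)
  · right
    have hJS : J ⊆ P.S := by rw [hJdef]; exact fun s hs => hs.1
    by_cases hall : (P.S \ J).Nonempty
    · exfalso
      obtain ⟨r, hr, s, hs, hns⟩ := hirr J hJS hJne hall
      apply hns
      obtain ⟨hrS, hrM⟩ : r ∈ P.S ∧ r ∈ N ⊔ P.B := by rw [hJdef] at hr; exact hr
      have hsM : s ∉ N ⊔ P.B := fun h => hs.2 (by rw [hJdef]; exact ⟨hs.1, h⟩)
      have hcomm := gen_comm_of_normal N (r := ⟨r, hrS⟩) (s := ⟨s, hs.1⟩) hrM hsM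
      have hrN := P.subset hrS
      have hsN := P.subset hs.1
      rw [← mkW_eq_one_iff (mul_mem (mul_mem (mul_mem hrN hsN) (inv_mem hrN)) (inv_mem hsN)),
        mkW_mul (mul_mem (mul_mem hrN hsN) (inv_mem hrN)) (inv_mem hsN),
        mkW_mul (mul_mem hrN hsN) (inv_mem hrN), mkW_mul hrN hsN, mkW_inv hrN, mkW_inv hsN]
      simp only [gen] at hcomm
      rw [hcomm]
      group
    · rw [Set.not_nonempty_iff_eq_empty, Set.sdiff_eq_empty] at hall
      rw [hM, eq_top_iff, ← parabolic_S]
      exact sup_le_sup_left (Subgroup.closure_mono hall) _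

theorem eq_top_of_sup_solvable {H : Subgroup G} (N : Subgroup G) [N.Normal]
    (h : N ⊔ H = ⊤) (hsolv : Group.IsSolvable H) (hperf : commutator G = ⊤) : N = ⊤ := by
  have hsurj : Function.Surjective ((QuotientGroup.mk' N).comp H.subtype) := by
    intro q
    induction q using QuotientGroup.induction_on with
    | H g =>
      have hg : g ∈ (↑(N ⊔ H) : Set G) := by simp [h]
      rw [Subgroup.normal_mul N H] at hg
      obtain ⟨x, hx, b, hb, rfl⟩ := hg
      refine ⟨⟨b, hb⟩, QuotientGroup.eq.2 ?_⟩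
      simpa [mul_assoc] using Subgroup.Normal.conj_mem inferInstance x hx b⁻¹
  have hQ : Group.IsSolvable (G ⧸ N) := by
    have := hsolv
    exact Group.isSolvable_of_surjective hsurj
  have hperfQ : commutator (G ⧸ N) = ⊤ := by
    have h1 := Subgroup.map_commutator ⊤ ⊤ (QuotientGroup.mk' N)
    rw [Subgroup.map_top_of_surjective _ (QuotientGroup.mk'_surjective N), ← commutator_def,
      ← commutator_def, hperf, Subgroup.map_top_of_surjective _ (QuotientGroup.mk'_surjective N)] at h1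
    exact h1.symm
  obtain ⟨k, hk⟩ := (Group.isSolvable_def (G ⧸ N)).1 hQ
  have hall : ∀ j, derivedSeries (G ⧸ N) j = ⊤ := by
    intro j
    induction j with
    | zero => rfl
    | succ j ih => rw [derivedSeries_succ, ih, ← commutator_def, hperfQ]
  rw [hall k] at hk
  rw [eq_top_iff]
  intro g _
  have : (QuotientGroup.mk g : G ⧸ N) ∈ (⊥ : Subgroup (G ⧸ N)) := hk ▸ Subgroup.mem_top _
  simpa using this

theorem isSimpleGroup [Nontrivial G] (hirr : P.Irreducible) (hsolv : Group.IsSolvable P.B)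
    (hperf : commutator G = ⊤) (hcore : P.B.normalCore = ⊥) : IsSimpleGroup G := by
  refine ⟨fun N hN => ?_⟩
  rcases le_B_or_sup_eq_top hirr N with h | h
  · left
    rw [eq_bot_iff, ← hcore]
    exact Subgroup.normal_le_normalCore.2 h
  · exact Or.inr (eq_top_of_sup_solvable N h hsolv hperf)

end Cfsg.Agent.BN.Simple
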